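import Groth.Agent.SchImageLib.Reduced

/-! Reduced induced closed subschemes, lifting of morphisms with reduced source. -/

set_option autoImplicit false

universe u

open AlgebraicGeometry CategoryTheory TopologicalSpace Limits

namespace Groth.Agent.RedSepLib

variable {X Y Z : Scheme.{u}}

theorem exists_lift_of_range_subset [IsReduced X] (f : X ⟶ Y) (j : Z ⟶ Y) [IsClosedImmersion j]
    (h : Set.range f ⊆ Set.range j) : ∃ g : X ⟶ Z, g ≫ j = f := by
  refine ⟨IsClosedImmersion.lift j f ?_, IsClosedImmersion.lift_fac _ _ _⟩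
  rw [SchImageLib.ker_eq_vanishingIdeal f, ← Scheme.IdealSheafData.le_support_iff_le_vanishingIdeal]
  exact closure_minimal (h.trans j.range_subset_ker_support) j.ker.support.isClosed

theorem isReduced_subscheme_iff (I : X.IdealSheafData) :
    IsReduced I.subscheme ↔ I.radical = I := by
  constructor
  · intro h
    refine Scheme.IdealSheafData.ext (funext fun U ↦ ?_)
    have : _root_.IsReduced Γ(I.subscheme, I.subschemeι ⁻¹ᵁ U) := inferInstance
    have h2 : _root_.IsReduced (Γ(X, U) ⧸ I.ideal U) :=
      isReduced_of_injective (I.subschemeObjIso U).inv.hom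
        (ConcreteCategory.bijective_of_isIso _).1
    rw [Scheme.IdealSheafData.radical_ideal]
    exact Ideal.radical_eq_iff.mpr ((Ideal.isRadical_iff_quotient_reduced _).mpr h2)
  · intro h
    have : ∀ U, AlgebraicGeometry.IsReduced (I.subschemeCover.openCover.X U) := fun U ↦ by
      change AlgebraicGeometry.IsReduced (Spec (.of (Γ(X, U.1) ⧸ I.ideal U)))
      have hU : (I.ideal U).radical = I.ideal U :=
        (I.radical_ideal U).symm.trans (congrArg (fun J : X.IdealSheafData ↦ J.ideal U) h)
      have : _root_.IsReduced (Γ(X, U.1) ⧸ I.ideal U) :=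
        (Ideal.isRadical_iff_quotient_reduced _).mp (Ideal.radical_eq_iff.mp hU)
      infer_instance
    exact AlgebraicGeometry.IsReduced.of_openCover (𝒰 := I.subschemeCover.openCover)

theorem isReduced_vanishingIdeal (C : Closeds X) :
    IsReduced (Scheme.IdealSheafData.vanishingIdeal C).subscheme := by
  rw [isReduced_subscheme_iff, ← Scheme.IdealSheafData.vanishingIdeal_support]
  congr 1

theorem isReduced_subscheme_iff_eq_nilradical (I : X.IdealSheafData) (hI : I.support = ⊤) :
    IsReduced I.subscheme ↔ I = X.nilradical := by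
  rw [isReduced_subscheme_iff, ← Scheme.IdealSheafData.vanishingIdeal_support, hI,
    Scheme.IdealSheafData.vanishingIdeal_top, eq_comm]

instance isReduced_nilradical : IsReduced X.nilradical.subscheme :=
  (isReduced_subscheme_iff_eq_nilradical _ X.support_nilradical).mpr rfl

theorem range_vanishingIdeal_subschemeι (C : Closeds X) :
    Set.range (Scheme.IdealSheafData.vanishingIdeal C).subschemeι = (C : Set X) := by
  rw [Scheme.IdealSheafData.range_subschemeι, Scheme.IdealSheafData.coe_support_vanishingIdeal]

theorem exists_iso_of_reduced_closed {Y' : Scheme.{u}} [IsReduced Y] [IsReduced Y'] (i : Y ⟶ X)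
    (i' : Y' ⟶ X) [IsClosedImmersion i] [IsClosedImmersion i'] (h : Set.range i = Set.range i') :
    ∃ e : Y ≅ Y', e.hom ≫ i' = i := by
  obtain ⟨a, ha⟩ := exists_lift_of_range_subset i i' h.le
  obtain ⟨b, hb⟩ := exists_lift_of_range_subset i' i h.ge
  refine ⟨⟨a, b, ?_, ?_⟩, ha⟩
  · rw [← cancel_mono i, Category.assoc, hb, ha, Category.id_comp]
  · rw [← cancel_mono i', Category.assoc, ha, hb, Category.id_comp]

theorem exists_iso_of_reduced_immersion {Y' : Scheme.{u}} [IsReduced Y] [IsReduced Y'] (i : Y ⟶ X)
    (i' : Y' ⟶ X) [IsImmersion i] [IsImmersion i'] (h : Set.range i = Set.range i') :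
    ∃ e : Y ≅ Y', e.hom ≫ i' = i := by
  have hU : i.coborderRange = i'.coborderRange := TopologicalSpace.Opens.ext (congrArg coborder h)
  let k : Y ⟶ i'.coborderRange.toScheme := i.liftCoborder ≫ (X.isoOfEq hU).hom
  have hk : k ≫ i'.coborderRange.ι = i := by simp [k]
  obtain ⟨e, he⟩ := exists_iso_of_reduced_closed k i'.liftCoborder (by
    apply Set.image_injective.mpr i'.coborderRange.ι.isOpenEmbedding.injective
    rw [← Set.range_comp, ← Set.range_comp, ← TopCat.coe_comp, ← Scheme.Hom.comp_base,
      ← TopCat.coe_comp, ← Scheme.Hom.comp_base, hk, i'.liftCoborder_ι, h])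
  exact ⟨e, by rw [← i'.liftCoborder_ι, reassoc_of% he, hk]⟩

theorem exists_reduced_immersion (S : Set X) (hS : IsLocallyClosed S) :
    ∃ (Y : Scheme.{u}) (i : Y ⟶ X), IsImmersion i ∧ IsReduced Y ∧ Set.range i = S := by
  let U : X.Opens := ⟨coborder S, hS.isOpen_coborder⟩
  let C : Closeds U.toScheme := ⟨U.ι ⁻¹' S,
    show IsClosed (Subtype.val ⁻¹' S : Set (coborder S)) from isClosed_preimage_val_coborder⟩
  refine ⟨_, (Scheme.IdealSheafData.vanishingIdeal C).subschemeι ≫ U.ι, inferInstance,
    isReduced_vanishingIdeal C, ?_⟩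
  rw [Scheme.Hom.comp_base, TopCat.coe_comp, Set.range_comp, range_vanishingIdeal_subschemeι]
  exact Set.image_preimage_eq_of_subset (by rw [Scheme.Opens.range_ι]; exact subset_coborder)

theorem exists_factor_openImmersion_closedImmersion [IsReduced Z] (h : Z ⟶ X) [IsImmersion h] :
    ∃ (W : Scheme.{u}) (j : Z ⟶ W) (i : W ⟶ X), IsOpenImmersion j ∧ IsClosedImmersion i ∧
      IsReduced W ∧ Set.range i = closure (Set.range h) ∧ j ≫ i = h := by
  let C : Closeds X := ⟨closure (Set.range h), isClosed_closure⟩
  let i := (Scheme.IdealSheafData.vanishingIdeal C).subschemeι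
  have hi : Set.range i = closure (Set.range h) := range_vanishingIdeal_subschemeι C
  have := isReduced_vanishingIdeal C
  obtain ⟨j, hj⟩ := exists_lift_of_range_subset h i (subset_closure.trans hi.ge)
  have : IsImmersion (j ≫ i) := by rw [hj]; infer_instance
  have : IsImmersion j := IsImmersion.of_comp j i
  have hjr : IsOpen (Set.range j) := by
    have h1 : Set.range j = i ⁻¹' coborder (Set.range h) := by
      apply Set.image_injective.mpr i.isClosedEmbedding.injective
      rw [← Set.range_comp, ← TopCat.coe_comp, ← Scheme.Hom.comp_base, hj,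
        Set.image_preimage_eq_inter_range, hi]
      exact (coborder_inter_closure).symm
    rw [h1]
    exact h.isLocallyClosed_range.isOpen_coborder.preimage i.continuous
  let U : Scheme.Opens _ := ⟨Set.range j, hjr⟩
  let j' : Z ⟶ U.toScheme := IsOpenImmersion.lift U.ι j (by rw [Scheme.Opens.range_ι]; rfl)
  have hj' : j' ≫ U.ι = j := IsOpenImmersion.lift_fac _ _ _
  have : IsPreimmersion (j' ≫ U.ι) := by rw [hj']; infer_instance
  have : IsPreimmersion j' := IsPreimmersion.of_comp j' U.ι
  have hsurj : Set.range j' = Set.univ := by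
    apply Set.image_injective.mpr U.ι.isOpenEmbedding.injective
    rw [← Set.range_comp, ← TopCat.coe_comp, ← Scheme.Hom.comp_base, hj', Set.image_univ,
      Scheme.Opens.range_ι]
    rfl
  have : IsClosedImmersion j' := .of_isPreimmersion _ (hsurj ▸ isClosed_univ)
  have : IsReduced U.toScheme := isReduced_of_isOpenImmersion U.ι
  have : IsIso j' := IsClosedImmersion.isIso_iff_ker_eq_bot.mpr
    (Scheme.IdealSheafData.support_eq_top_iff.mp (top_le_iff.mp fun x _ ↦
      j'.range_subset_ker_support (hsurj ▸ Set.mem_univ x)))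
  exact ⟨_, j, i, hj' ▸ inferInstance, inferInstance, inferInstance, hi, hj⟩

theorem isOpenImmersion_red (f : X ⟶ Y) [IsOpenImmersion f]
    (g : X.nilradical.subscheme ⟶ Y.nilradical.subscheme)
    (hg : g ≫ Y.nilradical.subschemeι = X.nilradical.subschemeι ≫ f) : IsOpenImmersion g := by
  let P := pullback f Y.nilradical.subschemeι
  have hcl : IsClosedImmersion (pullback.fst f Y.nilradical.subschemeι) :=
    inferInstance
  have hop : IsOpenImmersion (pullback.snd f Y.nilradical.subschemeι) :=
    MorphismProperty.pullback_snd _ _ inferInstance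
  have : IsReduced P := isReduced_of_isOpenImmersion (pullback.snd f Y.nilradical.subschemeι)
  let a : X.nilradical.subscheme ⟶ P := pullback.lift X.nilradical.subschemeι g hg.symm
  obtain ⟨b, hb⟩ := exists_lift_of_range_subset (pullback.fst f Y.nilradical.subschemeι)
    X.nilradical.subschemeι (by rw [Scheme.IdealSheafData.range_subschemeι]; simp)
  have hab : a ≫ b = 𝟙 _ := by
    rw [← cancel_mono X.nilradical.subschemeι, Category.assoc, hb, Category.id_comp]
    exact pullback.lift_fst _ _ _
  have hba : b ≫ a = 𝟙 _ := by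
    rw [← cancel_mono (pullback.fst f Y.nilradical.subschemeι), Category.assoc, pullback.lift_fst,
      hb, Category.id_comp]
  have : IsIso a := ⟨⟨b, hab, hba⟩⟩
  rw [show g = a ≫ pullback.snd _ _ from (pullback.lift_snd _ _ _).symm]
  infer_instance

end Groth.Agent.RedSepLib
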