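import Mathlib

/-! The punctured plane is not affine. -/

set_option autoImplicit false

universe u

open AlgebraicGeometry CategoryTheory MvPolynomial

namespace Groth.Agent.RedSepLib

theorem dvd_pow_of_mul_pow_eq {R : Type u} [CommRing R] [IsDomain R] {s t P Q : R} (hs : Prime s)
    (hst : ¬ s ∣ t) {n m : ℕ} (h : P * t ^ m = Q * s ^ n) : s ^ n ∣ P :=
  hs.pow_dvd_of_dvd_mul_right n (fun hd ↦ hst (hs.dvd_of_dvd_pow hd)) ⟨Q, by rw [h, mul_comm]⟩

/-- The basic open of `Spec R`. -/
abbrev dOpen {R : CommRingCat.{u}} (r : R) : (Spec R).Opens := PrimeSpectrum.basicOpen r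

set_option backward.isDefEq.respectTransparency.types false in
instance {R : CommRingCat.{u}} (r : R) : IsLocalization.Away r Γ(Spec R, dOpen r) :=
  inferInstanceAs (IsLocalization.Away r Γ(Spec R, PrimeSpectrum.basicOpen r))

theorem not_isAffineOpen_sup_basicOpen (R : CommRingCat.{u}) [IsDomain R] (s t : R) (hs : Prime s)
    (hst : ¬ s ∣ t) (hspan : Ideal.span {s, t} ≠ ⊤) :
    ¬ IsAffineOpen (X := Spec R) (PrimeSpectrum.basicOpen s ⊔ PrimeSpectrum.basicOpen t) := by
  intro hU
  let U : (Spec R).Opens := dOpen s ⊔ dOpen t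
  have hs0 : s ≠ 0 := hs.ne_zero
  have ht0 : t ≠ 0 := fun h ↦ hst (h ▸ dvd_zero s)
  have hres : ∀ (V W : (Spec R).Opens) (h : V ≤ W) (x : R),
      ((Spec R).presheaf.map (homOfLE h).op).hom (algebraMap R Γ(Spec R, W) x) =
        algebraMap R Γ(Spec R, V) x := fun V W h x ↦ by
    simp only [IsAffineOpen.algebraMap_Spec_obj, CommRingCat.hom_comp, RingHom.comp_apply]
    rw [← CommRingCat.comp_apply, ← Functor.map_comp]
    rfl
  have key : ∀ a : Γ(Spec R, U), ∃ P : R,
      ((Spec R).presheaf.map (homOfLE (le_sup_left : dOpen s ≤ U)).op).hom a =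
        algebraMap R _ P := by
    intro a
    obtain ⟨⟨P, _, n, rfl⟩, hP⟩ := IsLocalization.surj (Submonoid.powers s)
      (((Spec R).presheaf.map (homOfLE (le_sup_left : dOpen s ≤ U)).op).hom a)
    obtain ⟨⟨Q, _, m, rfl⟩, hQ⟩ := IsLocalization.surj (Submonoid.powers t)
      (((Spec R).presheaf.map (homOfLE (le_sup_right : dOpen t ≤ U)).op).hom a)
    let D : (Spec R).Opens := dOpen (s * t)
    have h1 : D ≤ dOpen s := PrimeSpectrum.basicOpen_mul_le_left _ _
    have h2 : D ≤ dOpen t := PrimeSpectrum.basicOpen_mul_le_right _ _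
    have e1 := congrArg ((Spec R).presheaf.map (homOfLE h1).op).hom hP
    have e2 := congrArg ((Spec R).presheaf.map (homOfLE h2).op).hom hQ
    simp only [map_mul, hres] at e1 e2
    rw [← CommRingCat.comp_apply, ← Functor.map_comp] at e1 e2
    have hle : Submonoid.powers (s * t) ≤ nonZeroDivisors R :=
      powers_le_nonZeroDivisors_of_noZeroDivisors (mul_ne_zero hs0 ht0)
    have heq : P * t ^ m = Q * s ^ n := by
      refine IsLocalization.injective (M := Submonoid.powers (s * t))
        Γ(Spec R, dOpen (s * t)) hle ?_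
      rw [map_mul, map_mul, ← e1, ← e2, mul_right_comm]
      rfl
    obtain ⟨P', rfl⟩ := dvd_pow_of_mul_pow_eq hs hst heq
    refine ⟨P', (IsLocalization.map_units (M := Submonoid.powers s)
      Γ(Spec R, dOpen s) ⟨s ^ n, n, rfl⟩).mul_right_cancel ?_⟩
    rw [hP, ← map_mul, mul_comm]
  have hspanU : Ideal.span {algebraMap R Γ(Spec R, U) s, algebraMap R Γ(Spec R, U) t} = ⊤ := by
    rw [← hU.self_le_iSup_basicOpen_iff]
    have hb : ∀ r : R, (Spec R).basicOpen (algebraMap R Γ(Spec R, U) r) =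
        U ⊓ dOpen r := fun r ↦ by
      simp only [IsAffineOpen.algebraMap_Spec_obj, CommRingCat.hom_comp, RingHom.comp_apply]
      rw [Scheme.basicOpen_res, basicOpen_eq_of_affine']
      congr 2
      exact (Scheme.ΓSpecIso R).commRingCatIsoToRingEquiv.apply_symm_apply r
    refine sup_le ?_ ?_
    · refine le_trans ?_ (le_iSup _ ⟨_, Set.mem_insert _ _⟩)
      rw [hb]; exact le_inf le_sup_left le_rfl
    · refine le_trans ?_ (le_iSup _ ⟨_, Set.mem_insert_of_mem _ rfl⟩)
      rw [hb]; exact le_inf le_sup_right le_rfl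
  obtain ⟨a, b, hab⟩ := Ideal.mem_span_pair.mp ((Ideal.eq_top_iff_one _).mp hspanU)
  obtain ⟨A, hA⟩ := key a
  obtain ⟨B, hB⟩ := key b
  have := congrArg
    ((Spec R).presheaf.map (homOfLE (le_sup_left : dOpen s ≤ U)).op).hom hab
  rw [map_add, map_mul, map_mul, map_one, hA, hB] at this
  erw [hres _ _ le_sup_left s, hres _ _ le_sup_left t] at this
  rw [← map_mul, ← map_mul, ← map_add, ← map_one (algebraMap R _)] at this
  have h := IsLocalization.injective (M := Submonoid.powers s)
    Γ(Spec R, dOpen s) (powers_le_nonZeroDivisors_of_noZeroDivisors hs0) this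
  exact hspan ((Ideal.eq_top_iff_one _).mpr (Ideal.mem_span_pair.mpr ⟨A, B, h⟩))

theorem not_isAffineOpen_punctured_plane (K : Type u) [Field K] :
    ¬ IsAffineOpen (X := Spec (CommRingCat.of (MvPolynomial (Fin 2) K)))
      (PrimeSpectrum.basicOpen (MvPolynomial.X 0 : MvPolynomial (Fin 2) K) ⊔
        PrimeSpectrum.basicOpen (MvPolynomial.X 1 : MvPolynomial (Fin 2) K)) := by
  refine not_isAffineOpen_sup_basicOpen (CommRingCat.of (MvPolynomial (Fin 2) K)) (X 0 : MvPolynomial (Fin 2) K)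
    (X 1 : MvPolynomial (Fin 2) K) X_prime (fun h ↦ absurd (X_dvd_X.mp h) (by decide)) fun h ↦ ?_
  obtain ⟨a, b, hab⟩ := Ideal.mem_span_pair.mp ((Ideal.eq_top_iff_one _).mp h)
  simpa using congrArg (MvPolynomial.eval (0 : Fin 2 → K)) hab

end Groth.Agent.RedSepLib
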